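import Cfsg.Agent.Lib.UnitaryMax.Basic
import Cfsg.Agent.Lib.Classical.UnitaryOrder
import Cfsg.Agent.Lib.FormConj.Unitary

/-!
Complementary totally singular subspaces of a hermitian space: the block embedding of `GL_m(q²)` into their
stabiliser and fixed space dimensions of elements of that stabiliser.
-/

set_option autoImplicit false
set_option linter.unusedSectionVars false

namespace Cfsg.Agent.Lib.UnitaryPairDerange

open Matrix Module
open scoped MatrixGroups
open Cfsg.Agent.Lib.Forms Cfsg.Agent.Lib.UnitaryMax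

variable {F : Type*} [Field F] [Fintype F] {n q m : ℕ}

local notation "Vs" => (Fin n → F)
local notation "h" => Cfsg.hermForm n F q

/-- The dimension of the `c`-eigenspace. -/
noncomputable def eigDim (M : Matrix (Fin n) (Fin n) F) (c : F) : ℕ :=
  finrank F (LinearMap.ker (Matrix.toLin' (M - c • 1)))

theorem mem_ker_iff (M : Matrix (Fin n) (Fin n) F) (c : F) (v : Vs) :
    v ∈ LinearMap.ker (Matrix.toLin' (M - c • 1)) ↔ M *ᵥ v = c • v := by
  rw [LinearMap.mem_ker, Matrix.toLin'_apply, Matrix.sub_mulVec, Matrix.smul_mulVec, Matrix.one_mulVec,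
    sub_eq_zero]

theorem eigDim_conj (P : GL (Fin n) F) (M : Matrix (Fin n) (Fin n) F) (c : F) :
    eigDim ((P : Matrix (Fin n) (Fin n) F) * M * ((P⁻¹ : GL (Fin n) F) : Matrix (Fin n) (Fin n) F)) c =
      eigDim M c := by
  let e : Vs ≃ₗ[F] Vs :=
    { Matrix.toLin' (P : Matrix (Fin n) (Fin n) F) with
      invFun := fun v => ((P⁻¹ : GL (Fin n) F) : Matrix (Fin n) (Fin n) F) *ᵥ v
      left_inv := fun v => by
        simp only [AddHom.toFun_eq_coe, LinearMap.coe_toAddHom, Matrix.toLin'_apply]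
        exact inv_mulVec_mulVec P v
      right_inv := fun v => by
        simp only [AddHom.toFun_eq_coe, LinearMap.coe_toAddHom, Matrix.toLin'_apply]
        exact mulVec_inv_mulVec P v }
  have he : ∀ v, e v = (P : Matrix (Fin n) (Fin n) F) *ᵥ v := fun v => rfl
  rw [eigDim, eigDim, ← LinearEquiv.finrank_map_eq e (LinearMap.ker (Matrix.toLin' (M - c • 1)))]
  refine congrArg (fun U : Submodule F Vs => finrank F U) ?_
  ext v
  obtain ⟨w, rfl⟩ := e.surjective v
  rw [Submodule.mem_map_equiv, LinearEquiv.symm_apply_apply, mem_ker_iff, mem_ker_iff, he,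
    ← Matrix.mulVec_mulVec, ← Matrix.mulVec_mulVec, inv_mulVec_mulVec, ← Matrix.mulVec_smul]
  refine ⟨fun e' => ?_, fun e' => by rw [e']⟩
  have e2 := congrArg (((P⁻¹ : GL (Fin n) F) : Matrix (Fin n) (Fin n) F) *ᵥ ·) e'
  simpa [inv_mulVec_mulVec] using e2

theorem eigDim_isConj {x y : GL (Fin n) F} (hxy : IsConj x y) (c : F) :
    eigDim (x : Matrix (Fin n) (Fin n) F) c = eigDim (y : Matrix (Fin n) (Fin n) F) c := by
  obtain ⟨P, hP⟩ := isConj_iff.1 hxy
  rw [← hP, Units.val_mul, Units.val_mul, eigDim_conj]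

/-- A scalar matrix has eigenspaces of dimension `0` or `n` only. -/
theorem eigDim_scalar (z c : F) :
    eigDim (z • (1 : Matrix (Fin n) (Fin n) F)) c = 0 ∨ eigDim (z • (1 : Matrix (Fin n) (Fin n) F)) c = n := by
  rw [eigDim]
  rcases eq_or_ne z c with rfl | hne
  · right
    rw [sub_self, map_zero, LinearMap.ker_zero, finrank_top, Module.finrank_fin_fun]
  · left
    rw [← finrank_bot F Vs]
    refine congrArg (fun U : Submodule F Vs => finrank F U) ((Submodule.eq_bot_iff _).2 fun v hv => ?_)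
    rw [mem_ker_iff, Matrix.smul_mulVec, Matrix.one_mulVec] at hv
    have h2 : (z - c) • v = 0 := by rw [sub_smul, hv, sub_self]
    exact (smul_eq_zero.1 h2).resolve_left (sub_ne_zero.2 hne)

theorem eigDim_diagonal (d : Fin n → F) (c : F) :
    eigDim (Matrix.diagonal d) c = Nat.card {i // d i = c} := by
  classical
  have h1 := (Matrix.toLin' (Matrix.diagonal d - c • 1)).finrank_range_add_finrank_ker
  have h2 : finrank F (LinearMap.range (Matrix.toLin' (Matrix.diagonal d - c • 1))) =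
      Fintype.card {i // d i ≠ c} := by
    rw [show finrank F (LinearMap.range (Matrix.toLin' (Matrix.diagonal d - c • 1))) =
      (Matrix.diagonal d - c • 1).rank from rfl, smul_one_eq_diagonal, diagonal_sub, Matrix.rank_diagonal]
    simp only [ne_eq, sub_eq_zero]
  rw [Module.finrank_fin_fun, h2, Fintype.card_subtype_compl] at h1
  have h3 := Fintype.card_subtype_le (fun i => d i = c)
  rw [Fintype.card_fin] at h1 h3
  rw [eigDim, Nat.card_eq_fintype_card]
  omega

variable (hF : Fintype.card F = q ^ 2)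
include hF

theorem norm_one_pow {c : F} (hc : c ^ (q + 1) = 1) : c ^ q = c⁻¹ :=
  eq_inv_of_mul_eq_one_left (by rw [← pow_succ, hc])

/-- A totally singular subspace has at most half the dimension. -/
theorem two_mul_finrank_le (U : Submodule F Vs) (hU : ∀ u ∈ U, ∀ v ∈ U, h u v = 0) : 2 * finrank F U ≤ n := by
  have hg := hermSesq_goodForm (n := n) hF
  have hle : U ≤ perp (hermSesq hF n) U := fun v hv x hx => by rw [hermSesq_apply]; exact hU v hv x hx
  have h1 := Submodule.finrank_mono hle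
  have h2 := hg.finrank_add_finrank_perp U
  rw [Module.finrank_fin_fun] at h2
  omega

variable (A B : Submodule F (Fin n → F)) (hA : ∀ u ∈ A, ∀ v ∈ A, Cfsg.hermForm n F q u v = 0)
  (hB : ∀ u ∈ B, ∀ v ∈ B, Cfsg.hermForm n F q u v = 0)
  (hsup : A ⊔ B = ⊤) (hinf : A ⊓ B = ⊥)
include hA hB hsup hinf

theorem eq_zero_of_perp {u : Vs} (hu : u ∈ B) (h0 : ∀ a ∈ A, h u a = 0) : u = 0 := by
  by_contra hne
  obtain ⟨v, hv⟩ := exists_h_ne hF hne
  obtain ⟨a, ha, b, hb, rfl⟩ := Submodule.mem_sup.mp (hsup.ge (Submodule.mem_top (x := v)))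
  rw [herm_add_right hF, h0 a ha, hB u hu b hb, add_zero] at hv
  exact hv rfl

/-- An element fixing both members has eigenspaces for norm one eigenvalues of even dimension. -/
theorem even_eigDim {g : GL (Fin n) F} (hg : g ∈ Cfsg.GU n F q)
    (hgA : ∀ a ∈ A, (g : Matrix (Fin n) (Fin n) F) *ᵥ a ∈ A)
    (_hgA' : ∀ a ∈ A, ((g⁻¹ : GL (Fin n) F) : Matrix (Fin n) (Fin n) F) *ᵥ a ∈ A)
    (hgB : ∀ a ∈ B, (g : Matrix (Fin n) (Fin n) F) *ᵥ a ∈ B)
    (hgB' : ∀ a ∈ B, ((g⁻¹ : GL (Fin n) F) : Matrix (Fin n) (Fin n) F) *ᵥ a ∈ B)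
    (hdA : finrank F A = m) (hdn : 2 * m = n) {c : F} (hc : c ^ (q + 1) = 1) :
    Even (eigDim (g : Matrix (Fin n) (Fin n) F) c) := by
  set G := (g : Matrix (Fin n) (Fin n) F)
  set L := Matrix.toLin' (G - c • 1) with hL
  set K := LinearMap.ker L with hK
  have hLa : ∀ v, L v = G *ᵥ v - c • v := fun v => by
    rw [hL, Matrix.toLin'_apply, Matrix.sub_mulVec, Matrix.smul_mulVec, Matrix.one_mulVec]
  have hKsplit : K = (A ⊓ K) ⊔ (B ⊓ K) := by
    refine le_antisymm (fun v hv => ?_) (sup_le inf_le_right inf_le_right)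
    obtain ⟨a, ha, b, hb, rfl⟩ := Submodule.mem_sup.mp (hsup.ge (Submodule.mem_top (x := v)))
    rw [hK, LinearMap.mem_ker, map_add, hLa, hLa] at hv
    have h1 : G *ᵥ a - c • a ∈ A ⊓ B := ⟨A.sub_mem (hgA a ha) (A.smul_mem c ha), by
      rw [eq_neg_of_add_eq_zero_left hv]; exact B.neg_mem (B.sub_mem (hgB b hb) (B.smul_mem c hb))⟩
    rw [hinf, Submodule.mem_bot] at h1
    rw [h1, zero_add] at hv
    exact Submodule.add_mem_sup ⟨ha, by rw [hK, SetLike.mem_coe, LinearMap.mem_ker, hLa, h1]⟩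
      ⟨hb, by rw [hK, SetLike.mem_coe, LinearMap.mem_ker, hLa, hv]⟩
  have hdisj : ∀ C : Submodule F Vs, A ⊓ (B ⊓ C) = ⊥ := fun C =>
    eq_bot_iff.2 (le_trans (inf_le_inf le_rfl inf_le_left) hinf.le)
  have hperp : perp (hermSesq hF n) (A.map L) = A ⊔ (B ⊓ K) := by
    have key : ∀ a ∈ A, ∀ b ∈ B, h b (L a) =
        h (((g⁻¹ : GL (Fin n) F) : Matrix (Fin n) (Fin n) F) *ᵥ b - c ^ q • b) a := by
      intro a ha b hb
      have h1 : h b (G *ᵥ a) = h (((g⁻¹ : GL (Fin n) F) : Matrix (Fin n) (Fin n) F) *ᵥ b) a := by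
        conv_lhs => rw [← mulVec_inv_mulVec g b]
        exact hg _ a
      rw [hLa, h_sub_right hF, h_sub_left hF, herm_smul_right hF, herm_smul_left hF, h1]
    refine le_antisymm (fun w hw => ?_) (sup_le (fun w hw => ?_) fun w hw => ?_)
    · obtain ⟨a₀, ha₀, b, hb, rfl⟩ := Submodule.mem_sup.mp (hsup.ge (Submodule.mem_top (x := w)))
      refine Submodule.add_mem_sup ha₀ ⟨hb, ?_⟩
      have h0 := eq_zero_of_perp hF A B hA hB hsup hinf (B.sub_mem (hgB' b hb) (B.smul_mem (c ^ q) hb))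
        (fun a ha => by
          have h2 := hw (L a) (Submodule.mem_map_of_mem ha)
          rw [hermSesq_apply, herm_add_left hF, hA a₀ ha₀ (L a) (by
            rw [hLa]; exact A.sub_mem (hgA a ha) (A.smul_mem c ha)), zero_add, key a ha b hb] at h2
          exact h2)
      rw [sub_eq_zero, norm_one_pow hF hc] at h0
      rw [hK, SetLike.mem_coe, LinearMap.mem_ker, hLa, sub_eq_zero]
      have h1 := congrArg (fun z => G *ᵥ z) h0
      simp only [Matrix.mulVec_smul] at h1
      rw [show G *ᵥ (((g⁻¹ : GL (Fin n) F) : Matrix (Fin n) (Fin n) F) *ᵥ b) = b from mulVec_inv_mulVec g b] at h1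
      have hc0 : c ≠ 0 := by rintro rfl; simp at hc
      conv_rhs => rw [h1, smul_smul, mul_inv_cancel₀ hc0, one_smul]
    · rintro _ ⟨a, ha, rfl⟩
      rw [hermSesq_apply]
      exact hA w hw (L a) (by rw [hLa]; exact A.sub_mem (hgA a ha) (A.smul_mem c ha))
    · rintro _ ⟨a, ha, rfl⟩
      obtain ⟨hwB, hwK⟩ := hw
      rw [hermSesq_apply, key a ha w hwB]
      rw [hK, SetLike.mem_coe, LinearMap.mem_ker, hLa, sub_eq_zero] at hwK
      have hc0 : c ≠ 0 := by rintro rfl; simp at hc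
      have h1 : ((g⁻¹ : GL (Fin n) F) : Matrix (Fin n) (Fin n) F) *ᵥ w = c ^ q • w := by
        have h2 := congrArg (fun z => ((g⁻¹ : GL (Fin n) F) : Matrix (Fin n) (Fin n) F) *ᵥ z) hwK
        simp only [Matrix.mulVec_smul] at h2
        rw [show ((g⁻¹ : GL (Fin n) F) : Matrix (Fin n) (Fin n) F) *ᵥ (G *ᵥ w) = w from inv_mulVec_mulVec g w] at h2
        conv_rhs => rw [h2]
        rw [smul_smul, norm_one_pow hF hc, inv_mul_cancel₀ hc0, one_smul]
      rw [h1, sub_self, h_zero_left hF]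
  have h1 := (hermSesq_goodForm (n := n) hF).finrank_add_finrank_perp (A.map L)
  have h2 := (L.domRestrict A).finrank_range_add_finrank_ker
  have h3 : LinearMap.range (L.domRestrict A) = A.map L := by
    rw [LinearMap.domRestrict, LinearMap.range_comp, Submodule.range_subtype]
  have h4 : finrank F (LinearMap.ker (L.domRestrict A)) = finrank F ↥(A ⊓ K) := by
    rw [← Submodule.finrank_map_subtype_eq A (LinearMap.ker (L.domRestrict A))]
    refine congrArg (fun U : Submodule F Vs => finrank F U) ?_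
    rw [LinearMap.domRestrict, LinearMap.ker_comp, Submodule.map_comap_subtype]
  have h5 := Submodule.finrank_sup_add_finrank_inf_eq A (B ⊓ K)
  have h6 := Submodule.finrank_sup_add_finrank_inf_eq (A ⊓ K) (B ⊓ K)
  rw [hdisj, finrank_bot, add_zero] at h5
  rw [← hKsplit, show (A ⊓ K) ⊓ (B ⊓ K) = ⊥ from eq_bot_iff.2 (le_trans (inf_le_inf inf_le_left inf_le_left)
    hinf.le), finrank_bot, add_zero] at h6
  rw [hperp, Module.finrank_fin_fun] at h1
  rw [h3, h4] at h2
  exact ⟨finrank F ↥(A ⊓ K), show finrank F K = _ by omega⟩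

/-- An element exchanging the two members has all eigenspaces of at most half the dimension. -/
theorem eigDim_le_of_swap {g : GL (Fin n) F}
    (hgA : ∀ a ∈ A, (g : Matrix (Fin n) (Fin n) F) *ᵥ a ∈ B)
    (hdA : finrank F A = m) (hdn : 2 * m = n) (c : F) : eigDim (g : Matrix (Fin n) (Fin n) F) c ≤ m := by
  set K := LinearMap.ker (Matrix.toLin' ((g : Matrix (Fin n) (Fin n) F) - c • 1)) with hK
  have h0 : A ⊓ K = ⊥ := by
    refine (Submodule.eq_bot_iff _).2 fun v ⟨hvA, hvK⟩ => ?_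
    rw [hK, SetLike.mem_coe, mem_ker_iff] at hvK
    have h1 : (g : Matrix (Fin n) (Fin n) F) *ᵥ v ∈ A ⊓ B := ⟨by rw [hvK]; exact A.smul_mem c hvA, hgA v hvA⟩
    rw [hinf, Submodule.mem_bot] at h1
    exact (by simpa [inv_mulVec_mulVec] using
      congrArg (fun z => ((g⁻¹ : GL (Fin n) F) : Matrix (Fin n) (Fin n) F) *ᵥ z) h1)
  have h1 := Submodule.finrank_sup_add_finrank_inf_eq A K
  have h2 := Submodule.finrank_le (A ⊔ K)
  rw [h0, finrank_bot, add_zero] at h1
  rw [Module.finrank_fin_fun] at h2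
  show finrank F K ≤ m
  omega

/-- An adapted basis. -/
theorem exists_frame (hdA : finrank F A = m) (hdn : 2 * m = n) :
    ∃ b : Basis (Fin m ⊕ Fin m) F Vs, (∀ i, b (.inl i) ∈ A) ∧ (∀ i, b (.inr i) ∈ B) ∧
      ∀ i j, h (b (.inl i)) (b (.inr j)) = if i = j then 1 else 0 := by
  classical
  have hg := hermSesq_goodForm (n := n) hF
  let bA := Module.finBasisOfFinrankEq F A hdA
  have hdual : ∀ i, ∃ f ∈ B, ∀ j, h (bA j : Vs) f = if j = i then 1 else 0 := by
    intro i
    obtain ⟨π, hπ⟩ := LinearMap.exists_extend (bA.coord i)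
    obtain ⟨a, ha⟩ := hg.exists_vec π
    obtain ⟨a₀, ha₀, a₁, ha₁, rfl⟩ := Submodule.mem_sup.mp (hsup.ge (Submodule.mem_top (x := a)))
    refine ⟨a₁, ha₁, fun j => ?_⟩
    have h1 := ha (bA j : Vs)
    rw [hermSesq_apply, herm_add_right hF, hA _ (bA j).2 a₀ ha₀, zero_add] at h1
    rw [h1, show π (bA j : Vs) = bA.coord i (bA j) from LinearMap.congr_fun hπ (bA j), Module.Basis.coord_apply,
      Module.Basis.repr_self, Finsupp.single_apply]
  choose f hfB hef using hdual
  let w : Fin m ⊕ Fin m → Vs := Sum.elim (fun i => (bA i : Vs)) f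
  have hli : LinearIndependent F w := by
    refine LinearIndependent.sum_type ?_ ?_ ?_
    · exact bA.linearIndependent.map' A.subtype (Submodule.ker_subtype A)
    · rw [Fintype.linearIndependent_iff]
      intro c hc j
      have h1 := congrArg (hermSesq hF n · (bA j : Vs)) hc
      simp only [map_sum, LinearMap.sum_apply, LinearMap.map_smulₛₗ, LinearMap.smul_apply, hermSesq_apply, map_zero,
        LinearMap.zero_apply, smul_eq_mul] at h1
      rw [Finset.sum_eq_single j (fun i _ hij => by rw [hef, if_neg hij.symm, mul_zero]) (by simp),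
        hef, if_pos rfl, mul_one] at h1
      exact (map_eq_zero _).1 h1
    · refine Disjoint.mono (Submodule.span_le.2 ?_) (Submodule.span_le.2 ?_) (disjoint_iff.2 hinf)
      · rintro _ ⟨i, rfl⟩; exact (bA i).2
      · rintro _ ⟨i, rfl⟩; exact hfB i
  have hcard : Fintype.card (Fin m ⊕ Fin m) = finrank F Vs := by simp; omega
  refine ⟨Basis.mk hli (ge_of_eq (hli.span_eq_top_of_card_eq_finrank' hcard)), fun i => ?_, fun i => ?_,
    fun i j => ?_⟩
  · rw [Basis.mk_apply]; exact (bA i).2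
  · rw [Basis.mk_apply]; exact hfB i
  · rw [Basis.mk_apply, Basis.mk_apply]; exact hef j i

/-- The block embedding of `GL_m(q²)` in the stabiliser of the pair. -/
theorem exists_pairHom (hdA : finrank F A = m) (hdn : 2 * m = n) :
    ∃ (Ψ : GL (Fin m) F →* GL (Fin n) F) (Φ : (Fin m ⊕ Fin m → F) ≃ₗ[F] Vs),
      Function.Injective Ψ ∧ (∀ a, Ψ a ∈ Cfsg.GU n F q) ∧
      (∀ a, ∀ v ∈ A, (Ψ a : Matrix (Fin n) (Fin n) F) *ᵥ v ∈ A) ∧
      (∀ a, ∀ v ∈ B, (Ψ a : Matrix (Fin n) (Fin n) F) *ᵥ v ∈ B) ∧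
      (∀ a, (Ψ a : Matrix (Fin n) (Fin n) F).det =
        (a : Matrix (Fin m) (Fin m) F).det * ((a : Matrix (Fin m) (Fin m) F).det⁻¹) ^ q) ∧
      ∀ (a : GL (Fin m) F) (v : Fin m ⊕ Fin m → F), (Ψ a : Matrix (Fin n) (Fin n) F) *ᵥ Φ v =
        Φ (fromBlocks (a : Matrix (Fin m) (Fin m) F) 0 0
          (((a⁻¹ : GL (Fin m) F) : Matrix (Fin m) (Fin m) F).map (qPowHom hF))ᵀ *ᵥ v) := by
  classical
  obtain ⟨b, hbA, hbB, hb⟩ := exists_frame hF A B hA hB hsup hinf hdA hdn
  set σ := qPowHom hF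
  let Φ : (Fin m ⊕ Fin m → F) ≃ₗ[F] Vs := b.equivFun.symm
  let Λ : Matrix (Fin m ⊕ Fin m) (Fin m ⊕ Fin m) F →* Matrix (Fin n) (Fin n) F :=
    { toFun := fun M => LinearMap.toMatrix' (Φ.conj (Matrix.toLin' M))
      map_one' := by simp [LinearEquiv.conj_id]
      map_mul' := fun M N => by rw [Matrix.toLin'_mul, LinearEquiv.conj_comp, LinearMap.toMatrix'_comp] }
  let blk : GL (Fin m) F →* Matrix (Fin m ⊕ Fin m) (Fin m ⊕ Fin m) F :=
    { toFun := fun a => fromBlocks (a : Matrix (Fin m) (Fin m) F) 0 0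
        (((a⁻¹ : GL (Fin m) F) : Matrix (Fin m) (Fin m) F).map σ)ᵀ
      map_one' := by simp [Matrix.map_one _ (map_zero σ) (map_one σ), fromBlocks_one]
      map_mul' := fun a a' => by
        rw [fromBlocks_multiply, _root_.mul_inv_rev, Units.val_mul, Units.val_mul, Matrix.map_mul, transpose_mul]
        simp }
  let Ψ : GL (Fin m) F →* GL (Fin n) F := (Λ.comp blk).toHomUnits
  have hact : ∀ a v, (Ψ a : Matrix (Fin n) (Fin n) F) *ᵥ Φ v = Φ (blk a *ᵥ v) := fun a v => by
    show LinearMap.toMatrix' (Φ.conj (Matrix.toLin' (blk a))) *ᵥ Φ v = _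
    rw [LinearMap.toMatrix'_mulVec, LinearEquiv.conj_apply_apply, LinearEquiv.symm_apply_apply, Matrix.toLin'_apply]
  have hΦ : ∀ v, Φ v = ∑ k, v k • b k := fun v => b.equivFun_symm_apply v
  have hgram : ∀ x y : Fin m ⊕ Fin m → F, h (Φ x) (Φ y) =
      (x ∘ Sum.inl) ⬝ᵥ (σ ∘ y ∘ Sum.inr) + (x ∘ Sum.inr) ⬝ᵥ (σ ∘ y ∘ Sum.inl) := by
    intro x y
    have hba : ∀ i j, h (b (.inr i)) (b (.inl j)) = if i = j then 1 else 0 := fun i j => by
      rw [← herm_conj hF (b (.inl j)) (b (.inr i)), hb]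
      by_cases h1 : i = j
      · rw [if_pos h1, if_pos h1.symm, one_pow]
      · rw [if_neg h1, if_neg (Ne.symm h1), q_zero hF]
    rw [hΦ, hΦ, ← hermSesq_apply hF]
    simp only [map_sum, LinearMap.sum_apply, LinearMap.map_smulₛₗ, LinearMap.smul_apply]
    simp only [hermSesq_apply, smul_eq_mul,
      Fintype.sum_sum_type, hA _ (hbA _) _ (hbA _), hB _ (hbB _) _ (hbB _), hb, hba, RingHom.id_apply, mul_ite,
      mul_one, mul_zero, Finset.sum_ite_eq, Finset.sum_ite_eq', Finset.mem_univ, if_true, Finset.sum_const_zero,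
      add_zero, zero_add, dotProduct, Function.comp_apply]
    ring
  refine ⟨Ψ, Φ, fun a a' e => ?_, fun a => ?_, fun a v hv => ?_, fun a v hv => ?_, fun a => ?_, hact⟩
  · have h1 : blk a = blk a' := Matrix.ext_of_mulVec_single fun i => Φ.injective (by rw [← hact, ← hact, e])
    exact Units.ext (fromBlocks_inj.1 h1).1
  · intro u v
    obtain ⟨x, rfl⟩ := Φ.surjective u
    obtain ⟨y, rfl⟩ := Φ.surjective v
    show h ((Ψ a : Matrix (Fin n) (Fin n) F) *ᵥ Φ x) ((Ψ a : Matrix (Fin n) (Fin n) F) *ᵥ Φ y) = h (Φ x) (Φ y)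
    simp only [hact, hgram, blk, MonoidHom.coe_mk, OneHom.coe_mk, fromBlocks_mulVec, Sum.elim_comp_inl,
      Sum.elim_comp_inr, zero_mulVec, add_zero, zero_add]
    have key : ∀ (M N : Matrix (Fin m) (Fin m) F) (s t : Fin m → F), Mᵀ * N.map σ = 1 →
        (M *ᵥ s) ⬝ᵥ (σ ∘ (N *ᵥ t)) = s ⬝ᵥ (σ ∘ t) := fun M N s t hMN => by
      rw [show σ ∘ (N *ᵥ t) = N.map σ *ᵥ (σ ∘ t) from funext fun i => RingHom.map_mulVec σ N t i,
        dotProduct_mulVec, ← mulVec_transpose, mulVec_mulVec, dotProduct_comm,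
        show (N.map σ)ᵀ * M = 1 by rw [← transpose_transpose M, ← transpose_mul, hMN, transpose_one],
        one_mulVec, dotProduct_comm]
    rw [key _ _ _ _ ?_, key _ _ _ _ ?_]
    · rw [transpose_transpose, ← Matrix.map_mul, Units.inv_mul, Matrix.map_one _ (map_zero σ) (map_one σ)]
    · rw [transpose_map, show ((((a⁻¹ : GL (Fin m) F) : Matrix (Fin m) (Fin m) F).map σ)).map σ
          = ((a⁻¹ : GL (Fin m) F) : Matrix (Fin m) (Fin m) F) from Matrix.ext fun i j => qPowHom_qPowHom hF _,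
        ← transpose_mul, Units.inv_mul, transpose_one]
  · have hx : ∀ x : Fin m ⊕ Fin m → F, Φ x ∈ A ↔ x ∘ Sum.inr = 0 := fun x => by
      rw [hΦ, Fintype.sum_sum_type]
      have h1 : ∑ i, x (.inl i) • b (.inl i) ∈ A := A.sum_mem fun i _ => A.smul_mem _ (hbA i)
      rw [A.add_mem_iff_right h1]
      refine ⟨fun h2 => funext fun i => ?_, fun h2 => ?_⟩
      · have h3 : (∑ i, x (.inr i) • b (.inr i)) ∈ A ⊓ B := ⟨h2, B.sum_mem fun i _ => B.smul_mem _ (hbB i)⟩
        rw [hinf, Submodule.mem_bot] at h3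
        exact Fintype.linearIndependent_iff.1 (b.linearIndependent.comp Sum.inr Sum.inr_injective) _ h3 i
      · simp [show ∀ i, x (.inr i) = 0 from congrFun h2]
    obtain ⟨x, rfl⟩ := Φ.surjective v
    rw [hact, hx]
    simp [blk, fromBlocks_mulVec, (hx x).1 hv]
  · have hx : ∀ x : Fin m ⊕ Fin m → F, Φ x ∈ B ↔ x ∘ Sum.inl = 0 := fun x => by
      rw [hΦ, Fintype.sum_sum_type]
      have h1 : ∑ i, x (.inr i) • b (.inr i) ∈ B := B.sum_mem fun i _ => B.smul_mem _ (hbB i)
      rw [B.add_mem_iff_left h1]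
      refine ⟨fun h2 => funext fun i => ?_, fun h2 => ?_⟩
      · have h3 : (∑ i, x (.inl i) • b (.inl i)) ∈ A ⊓ B := ⟨A.sum_mem fun i _ => A.smul_mem _ (hbA i), h2⟩
        rw [hinf, Submodule.mem_bot] at h3
        exact Fintype.linearIndependent_iff.1 (b.linearIndependent.comp Sum.inl Sum.inl_injective) _ h3 i
      · simp [show ∀ i, x (.inl i) = 0 from congrFun h2]
    obtain ⟨x, rfl⟩ := Φ.surjective v
    rw [hact, hx]
    simp [blk, fromBlocks_mulVec, (hx x).1 hv]
  · show (LinearMap.toMatrix' (Φ.conj (Matrix.toLin' (blk a)))).det = _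
    rw [LinearMap.det_toMatrix', LinearEquiv.conj_apply, LinearMap.comp_assoc]
    refine (LinearMap.det_conj (Matrix.toLin' (blk a)) Φ).trans ?_
    rw [LinearMap.det_toLin']
    simp only [blk, MonoidHom.coe_mk, OneHom.coe_mk, det_fromBlocks_zero₂₁, det_transpose]
    rw [← RingHom.mapMatrix_apply, ← RingHom.map_det, qPowHom_apply]
    congr 2
    exact eq_inv_of_mul_eq_one_left (by rw [← det_mul, Units.inv_mul, det_one])

end Cfsg.Agent.Lib.UnitaryPairDerange
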