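import Cfsg.Agent.Lib.UnitaryPairDerange.Frame
import Cfsg.Agent.Lib.FormConj.Realise
import Cfsg.Agent.Lib.LinClasses.SquareRoot

/-!
Prime order elements of special unitary groups with a fixed space of prescribed parity, square roots of scalars,
and the divisibility forced by the stabiliser of a polar pair.
-/

set_option autoImplicit false
set_option linter.unusedSectionVars false

namespace Cfsg.Agent.Lib.UnitaryPairDerange

open Matrix Module
open scoped MatrixGroups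
open Cfsg.Agent.Lib.Forms Cfsg.Agent.Lib.UnitaryMax

variable {F : Type*} [Field F] [Fintype F] {n q : ℕ}

local notation "Vs" => (Fin n → F)
local notation "h" => Cfsg.hermForm n F q

theorem two_adic_split {N n : ℕ} (hN : N ≠ 0) (hn : n ≠ 0) (hle : padicValNat 2 N ≤ padicValNat 2 n) :
    ∃ t, Odd t ∧ N ∣ n * t := by
  obtain ⟨e, t, ht, rfl⟩ := Nat.exists_eq_two_pow_mul_odd hN
  refine ⟨t, ht, mul_dvd_mul ?_ dvd_rfl⟩
  have hve : padicValNat 2 (2 ^ e * t) = e := by
    rw [padicValNat.mul (by positivity) (by rintro rfl; simp at ht), padicValNat.prime_pow,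
      padicValNat.eq_zero_of_not_dvd (Nat.two_dvd_ne_zero.2 (Nat.odd_iff.1 ht)), add_zero]
  exact (pow_dvd_pow 2 (hve ▸ hle)).trans pow_padicValNat_dvd

/-- An element of exact order `k` in the norm one elements. -/
theorem exists_norm_one_of_dvd (hF : Fintype.card F = q ^ 2) {k : ℕ} (hk : k ∣ q + 1) :
    ∃ c : F, orderOf c = k ∧ c ^ (q + 1) = 1 := by
  have hq : 1 < q ^ 2 := hF ▸ Fintype.one_lt_card
  obtain ⟨ζ, hζ⟩ := IsCyclic.exists_ofOrder_eq_natCard (α := Fˣ)
  have hc : Nat.card Fˣ = (q + 1) * (q - 1) := by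
    rw [Nat.card_units, Nat.card_eq_fintype_card, hF]
    exact Nat.sq_sub_sq q 1 ▸ by rw [one_pow]
  obtain ⟨j, hj⟩ : k ∣ orderOf ζ := by rw [hζ, hc]; exact hk.trans (dvd_mul_right _ _)
  have hpos : 0 < orderOf ζ := orderOf_pos ζ
  have ho : orderOf (ζ ^ j) = k := by
    have hj0 : j ≠ 0 := fun e => hpos.ne' (by rw [hj, e, mul_zero])
    rw [orderOf_pow_of_dvd hj0 (hj ▸ dvd_mul_left j k), hj, Nat.mul_div_cancel _ (Nat.pos_of_ne_zero hj0)]
  refine ⟨((ζ ^ j : Fˣ) : F), by rw [orderOf_units, ho], ?_⟩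
  rw [← Units.val_pow_eq_pow_val, orderOf_dvd_iff_pow_eq_one.1 (ho ▸ hk), Units.val_one]

theorem exists_neg_one_eq_pow (hF : Fintype.card F = q ^ 2) (h2 : (2 : F) ≠ 0) (hn : n ≠ 0)
    (hlt : padicValNat 2 n < padicValNat 2 (q + 1)) : ∃ c : F, c ^ (q + 1) = 1 ∧ c ^ n = -1 := by
  obtain ⟨e, t, ht, rfl⟩ := Nat.exists_eq_two_pow_mul_odd hn
  have hve : padicValNat 2 (2 ^ e * t) = e := by
    rw [padicValNat.mul (by positivity) (by rintro rfl; simp at ht), padicValNat.prime_pow,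
      padicValNat.eq_zero_of_not_dvd (Nat.two_dvd_ne_zero.2 (Nat.odd_iff.1 ht)), add_zero]
  rw [hve] at hlt
  obtain ⟨c, hc, hc1⟩ := exists_norm_one_of_dvd hF ((pow_dvd_pow 2 hlt).trans pow_padicValNat_dvd)
  refine ⟨c, hc1, ?_⟩
  have h1 : c ^ 2 ^ (e + 1) = 1 := by rw [← hc, pow_orderOf_eq_one]
  have h3 : c ^ 2 ^ e ≠ 1 := fun h3 => by
    have h4 := orderOf_dvd_of_pow_eq_one h3
    rw [hc, Nat.pow_dvd_pow_iff_le_right (by norm_num)] at h4
    omega
  have h5 : c ^ 2 ^ e = -1 := by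
    refine (sq_eq_one_iff.1 ?_).resolve_left h3
    rw [← pow_mul, ← pow_succ, h1]
  rw [pow_mul, h5, ht.neg_one_pow]

variable (hF : Fintype.card F = q ^ 2)
include hF

theorem unitary_det_norm {g : GL (Fin n) F} (hg : g ∈ Cfsg.GU n F q) :
    (g : Matrix (Fin n) (Fin n) F).det ^ (q + 1) = 1 :=
  Classical.det_norm_one hF ⟨g, hg⟩

theorem mem_special_iff {g : GL (Fin n) F} :
    g ∈ Cfsg.Geo.specialLinear (Fin n) F ↔ (g : Matrix (Fin n) (Fin n) F).det = 1 :=
  ⟨fun e => congrArg Units.val (MonoidHom.mem_ker.1 e), fun e => MonoidHom.mem_ker.2 (Units.ext e)⟩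

/-- A diagonal unitary element. -/
theorem exists_diagonal_element (d : Fin n → F) (hd : ∀ i, d i ^ (q + 1) = 1) (hdet : ∏ i, d i = 1) :
    ∃ x ∈ suGL n F q, (x : Matrix (Fin n) (Fin n) F) = Matrix.diagonal d :=
  ⟨glMk (Matrix.diagonal d) (by rw [Matrix.det_diagonal, hdet]),
    glMk_mem _ _ (Classical.diagonal_mem_GU hF d hd), glMk_val _ _⟩

/-- Hilbert 90 for the quadratic extension. -/
theorem exists_twist_quotient {δ : F} (hδ : δ ^ (q + 1) = 1) : ∃ ψ : F, ψ ≠ 0 ∧ ψ * (ψ⁻¹) ^ q = δ := by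
  obtain ⟨w, hw⟩ : ∃ w : F, w + δ * w ^ q ≠ 0 := by
    by_contra hne
    push Not at hne
    obtain ⟨a, ha⟩ := exists_moved hF
    have h1 := hne 1
    rw [one_pow, mul_one] at h1
    have h2 := hne a
    exact ha (by linear_combination a * h1 - h2 + (a ^ q - a) * (h1 - 0))
  refine ⟨w + δ * w ^ q, hw, ?_⟩
  have h1 : δ * (w + δ * w ^ q) ^ q = w + δ * w ^ q := by
    rw [q_add hF, mul_pow, pow_q_pow_q hF, mul_add, ← mul_assoc, ← pow_succ', hδ, one_mul, add_comm]
  conv_lhs => arg 1; rw [← h1]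
  rw [inv_pow, mul_assoc, mul_inv_cancel₀ (pow_ne_zero _ hw), mul_one]

/-- An element of order `r` of `SU_n` whose fixed space has dimension `n - e`. -/
theorem exists_element_fixed {p r : ℕ} [Fact p.Prime] [CharP F p] [Fact r.Prime] (hrp : r ≠ p)
    (hr1 : ¬ r ∣ q + 1) {e : ℕ} (heo : Odd e) (hen : e ≤ n)
    (hord : orderOf (-(q : ZMod r)) = e) :
    ∃ x ∈ suGL n F q, (x : Matrix (Fin n) (Fin n) F) ^ r = 1 ∧ eigDim (x : Matrix (Fin n) (Fin n) F) 1 = n - e := by
  classical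
  have hp : p.Prime := Fact.out
  have hrpr : r.Prime := Fact.out
  have hr : (r : F) ≠ 0 := fun e' => hrp ((Nat.prime_dvd_prime_iff_eq hp hrpr).1 ((CharP.cast_eq_zero_iff F p r).1 e')).symm
  obtain ⟨fN, -, hfN⟩ := FiniteField.card F p
  obtain ⟨f, hqf⟩ : ∃ f, q = p ^ f := by
    obtain ⟨f, -, hf⟩ := (Nat.dvd_prime_pow hp).1 (show q ∣ p ^ (fN : ℕ) by
      rw [← hfN, hF]; exact dvd_pow_self q two_ne_zero)
    exact ⟨f, hf⟩
  obtain ⟨uq, huq⟩ := FormConj.exists_unit_natCast hp hrp f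
  rw [← hqf] at huq
  obtain ⟨ζ, hζ⟩ := FormConj.exists_root F hr
  set j := algebraMap F (AlgebraicClosure F)
  obtain ⟨σ, hσ, hσζ⟩ := FormConj.exists_powHom F p f hζ
  rw [← hqf] at hσζ
  set u : (ZMod r)ˣ := -uq
  have hu : orderOf u = e := by
    rw [← orderOf_units, show ((u : ZMod r)) = -(q : ZMod r) by simp [u, huq], hord]
  let S : Finset (ZMod r) := Finset.univ.filter fun a => ∃ k : ℕ, ((u ^ k : (ZMod r)ˣ) : ZMod r) = a
  let μ : ZMod r → ℕ := fun a => if a ∈ S then 1 else 0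
  have hcardS : S.card = e := by
    have hSe : S = Finset.univ.image (fun k : Fin e => ((u ^ (k : ℕ) : (ZMod r)ˣ) : ZMod r)) := by
      ext a
      simp only [S, Finset.mem_filter, Finset.mem_univ, true_and, Finset.mem_image]
      refine ⟨fun ⟨k, hk⟩ => ⟨⟨k % e, Nat.mod_lt _ heo.pos⟩, ?_⟩, fun ⟨k, hk⟩ => ⟨k, hk⟩⟩
      have h1 := pow_mod_orderOf u k
      rw [hu] at h1
      rw [← hk]
      exact congrArg Units.val h1
    rw [hSe, Finset.card_image_of_injective, Finset.card_univ, Fintype.card_fin]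
    exact fun a b hab => Fin.ext (pow_injOn_Iio_orderOf (by simp [hu]) (by simp [hu]) (Units.ext hab))
  have hμ : ∑ a, μ a = e := by simp [μ, hcardS]
  have hinv : ∀ a, μ ((u : ZMod r) * a) = μ a := fun a => by
    have : (u : ZMod r) * a ∈ S ↔ a ∈ S := by
      simp only [S, Finset.mem_filter, Finset.mem_univ, true_and]
      refine ⟨fun ⟨k, hk⟩ => ⟨k + (e - 1), ?_⟩, fun ⟨k, hk⟩ => ⟨k + 1, ?_⟩⟩
      · have h1 : u ^ (e - 1) * u = 1 := by
          rw [← pow_succ, Nat.sub_add_cancel heo.pos, ← hu, pow_orderOf_eq_one]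
        rw [pow_add, Units.val_mul, hk, mul_comm _ a, mul_assoc, mul_comm (u : ZMod r), ← Units.val_mul, h1,
          Units.val_one, mul_one]
      · rw [pow_succ', Units.val_mul, hk]
    simp only [μ, this]
  have hμ0 : μ 0 = 0 := if_neg (by
    simp only [S, Finset.mem_filter, Finset.mem_univ, true_and]
    rintro ⟨k, hk⟩
    exact Units.ne_zero _ hk)
  have hcardF : (Fintype.card F : ZMod r) = ((u * u : (ZMod r)ˣ) : ZMod r) := by
    rw [hF]; push_cast; simp [u, huq]; ring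
  obtain ⟨A₁, hA₁, hmA₁⟩ := FormConj.exists_of_mult j hζ (n := e) hr μ hμ
    (fun a => by rw [hcardF, Units.val_mul, mul_assoc, hinv, hinv]) (hcardF ▸ Units.isUnit _)
  obtain ⟨k₁, hk₁⟩ := FormConj.exists_invariant_form j hζ hr (qPowHom hF) σ
    (fun x => by rw [hσ, qPowHom_apply, map_pow, hqf]) uq (by rw [hσζ, huq]) hA₁ hmA₁
    (fun a => by rw [show -(uq : ZMod r) = ((u : (ZMod r)ˣ) : ZMod r) by simp [u]]; exact hinv a)
  have hfix : ∀ v, A₁ *ᵥ v = v → v = 0 := fun v hv => by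
    by_contra hv0
    have h1 : (A₁ - 1).det = 0 := Matrix.exists_mulVec_eq_zero_iff.1 ⟨v, hv0, by
      rw [Matrix.sub_mulVec, Matrix.one_mulVec, hv, sub_self]⟩
    have h2 : A₁.charpoly.eval 1 = 0 := by
      rw [Matrix.eval_charpoly, map_one, ← neg_sub, Matrix.det_neg, h1, mul_zero]
    have h3 := congrArg (Polynomial.eval (1 : AlgebraicClosure F)) hmA₁
    rw [← map_one j, Polynomial.eval_map_apply, h2, map_zero, map_one, FormConj.polyOf, Polynomial.eval_prod] at h3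
    obtain ⟨a, -, ha⟩ := Finset.prod_eq_zero_iff.1 h3.symm
    rw [Polynomial.eval_pow, Polynomial.eval_sub, Polynomial.eval_X, Polynomial.eval_C] at ha
    have ha' := pow_eq_zero_iff'.1 ha
    have ha0 : a = 0 := FormConj.rootAt_injective hζ (show FormConj.rootAt ζ a = FormConj.rootAt ζ 0 by
      rw [← sub_eq_zero.1 ha'.1, FormConj.rootAt, ZMod.val_zero, pow_zero])
    exact ha'.2 (ha0 ▸ hμ0)
  let ι := Fin e ⊕ Fin (n - e)
  let ε : ι ≃ Fin n := finSumFinEquiv.trans (finCongr (by omega))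
  let R := Matrix.reindexAlgEquiv F F ε
  let M : Matrix (Fin n) (Fin n) F := R (fromBlocks A₁ 0 0 1)
  let Kf : Matrix (Fin n) (Fin n) F := R (fromBlocks (k₁ : Matrix (Fin e) (Fin e) F) 0 0 1)
  have hM : M ^ r = 1 := by
    have hpow : ∀ i : ℕ, (fromBlocks A₁ 0 0 (1 : Matrix (Fin (n - e)) (Fin (n - e)) F)) ^ i
        = fromBlocks (A₁ ^ i) 0 0 1 := fun i => by
      induction i with
      | zero => simp [fromBlocks_one]
      | succ i ih => rw [pow_succ, ih, fromBlocks_multiply, pow_succ]; simp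
    rw [← map_pow, hpow, hA₁, fromBlocks_one, map_one]
  obtain ⟨G, hG⟩ := IsUnit.of_pow_eq_one hM hrpr.ne_zero
  have hK : IsUnit Kf := ((isUnit_iff_isUnit_det _).2 (by
    rw [det_fromBlocks_zero₂₁, det_one, mul_one]
    exact (isUnit_iff_isUnit_det _).1 k₁.isUnit)).map R
  obtain ⟨K, hKv⟩ := hK
  obtain ⟨x, hx⟩ := FormConj.exists_GU_isConj hF G K (by
    rw [hG, hKv]
    have hRT : ∀ N, ((R N).map (qPowHom hF))ᵀ = R ((N.map (qPowHom hF))ᵀ) := fun N => by simp [R]; rfl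
    rw [hRT, ← map_mul, ← map_mul, fromBlocks_map, fromBlocks_transpose, fromBlocks_multiply, fromBlocks_multiply]
    refine congrArg R ?_
    simp [Matrix.map_zero _ (map_zero (qPowHom hF)), Matrix.map_one _ (map_zero (qPowHom hF))
      (map_one (qPowHom hF)), hk₁])
  obtain ⟨P, hP⟩ := isConj_iff.1 hx
  have hxr : ((x : GL (Fin n) F) : Matrix (Fin n) (Fin n) F) ^ r = 1 := by
    rw [← Units.val_pow_eq_pow_val, ← hP, conj_pow, Units.val_mul, Units.val_mul, Units.val_pow_eq_pow_val, hG, hM,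
      mul_one, Units.mul_inv]
  have hdet : ((x : GL (Fin n) F) : Matrix (Fin n) (Fin n) F).det = 1 := by
    have h1 : ((x : GL (Fin n) F) : Matrix (Fin n) (Fin n) F).det ^ r = 1 := by rw [← det_pow, hxr, det_one]
    have h2 := unitary_det_norm hF x.2
    have h3 := Nat.dvd_gcd (orderOf_dvd_of_pow_eq_one h1) (orderOf_dvd_of_pow_eq_one h2)
    rw [Nat.Coprime.gcd_eq_one ((Nat.Prime.coprime_iff_not_dvd hrpr).2 hr1), Nat.dvd_one, orderOf_eq_one_iff] at h3
    exact h3
  refine ⟨x, ⟨x.2, (mem_special_iff hF).2 hdet⟩, hxr, ?_⟩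
  rw [← eigDim_isConj hx, hG, eigDim]
  let E : (Fin (n - e) → F) →ₗ[F] Vs :=
    { toFun := fun w => Sum.elim (0 : Fin e → F) w ∘ ε.symm
      map_add' := fun w w' => funext fun i => by rcases hi : ε.symm i with a | a <;> simp [hi]
      map_smul' := fun c w => funext fun i => by rcases hi : ε.symm i with a | a <;> simp [hi] }
  have hEinj : Function.Injective E := fun w w' e' => funext fun a => by
    have := congrFun e' (ε (.inr a)); simpa [E] using this
  rw [show LinearMap.ker (Matrix.toLin' (M - (1 : F) • 1)) = LinearMap.range E from ?_,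
    LinearMap.finrank_range_of_inj hEinj, Module.finrank_fin_fun]
  ext v
  have hMv : M *ᵥ v = (fromBlocks A₁ 0 0 1 *ᵥ (v ∘ ε)) ∘ ε.symm := by
    simp only [M, R, Matrix.reindexAlgEquiv_apply, Matrix.reindex_apply, submatrix_mulVec_equiv, Equiv.symm_symm]
  rw [mem_ker_iff, one_smul, hMv, LinearMap.mem_range]
  constructor
  · intro hv
    have h1 : fromBlocks A₁ 0 0 1 *ᵥ (v ∘ ε) = v ∘ ε := funext fun i => by
      have := congrFun hv (ε i); simpa using this
    rw [fromBlocks_mulVec] at h1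
    have h2 := hfix ((v ∘ ε) ∘ Sum.inl) (funext fun i => by simpa using congrFun h1 (.inl i))
    refine ⟨(v ∘ ε) ∘ Sum.inr, funext fun i => ?_⟩
    obtain ⟨s, rfl⟩ := ε.surjective i
    rcases s with a | a
    · simpa [E] using (congrFun h2 a).symm
    · simp [E]
  · rintro ⟨w, rfl⟩
    refine funext fun i => ?_
    obtain ⟨s, rfl⟩ := ε.surjective i
    have hE : E w ∘ ε = Sum.elim (0 : Fin e → F) w := funext fun s => by simp [E]
    rw [hE, fromBlocks_mulVec, Sum.elim_comp_inl, Sum.elim_comp_inr]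
    rcases s with a | a <;> simp [E]

/-- If `r ≠ p` divides `|GU_{2m}(q)| / |GL_m(q²)|` then `-q` has odd order at most `2m` modulo `r`. -/
theorem exists_odd_index {p r m : ℕ} [Fact p.Prime] [CharP F p] [Fact r.Prime] (hrp : r ≠ p) (hnm : n = 2 * m)
    (hd : r * Nat.card (GL (Fin m) F) ∣ Nat.card (Cfsg.GU n F q)) :
    ∃ j < m, r ∣ q ^ (2 * j + 1) + 1 := by
  have hp : p.Prime := Fact.out
  have hrpr : r.Prime := Fact.out
  obtain ⟨fN, -, hfN⟩ := FiniteField.card F p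
  have hq : ¬ r ∣ q := fun e' => hrp ((Nat.prime_dvd_prime_iff_eq hrpr hp).1 (hrpr.dvd_of_dvd_pow
    (show r ∣ p ^ (fN : ℕ) by rw [← hfN, hF]; exact e'.trans (dvd_pow_self q two_ne_zero))))
  have hq2 := Forms.two_le_of_card_sq hF
  rw [Classical.natCard_GU hF, Matrix.card_GL_field, hF, hnm] at hd
  have hsplit : ∀ k : ℕ, (∏ i ∈ Finset.range (2 * k), if Even i then q ^ (i + 1) + 1 else q ^ (i + 1) - 1) =
      (∏ j ∈ Finset.range k, (q ^ (2 * j + 1) + 1)) * ∏ j ∈ Finset.range k, ((q ^ 2) ^ (j + 1) - 1) := fun k => by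
    induction k with
    | zero => simp
    | succ k ih =>
      rw [show 2 * (k + 1) = 2 * k + 1 + 1 by ring, Finset.prod_range_succ, Finset.prod_range_succ, ih,
        if_pos (even_two_mul k), if_neg (by simp [Nat.even_add_one]), Finset.prod_range_succ,
        Finset.prod_range_succ, show (q ^ 2) ^ (k + 1) = q ^ (2 * k + 1 + 1) by rw [← pow_mul]; ring_nf]
      ring
  have hgl : ∏ i : Fin m, ((q ^ 2) ^ m - (q ^ 2) ^ (i : ℕ)) =
      (q ^ 2) ^ (∑ i ∈ Finset.range m, i) * ∏ j ∈ Finset.range m, ((q ^ 2) ^ (j + 1) - 1) := by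
    rw [Fin.prod_univ_eq_prod_range (fun i => (q ^ 2) ^ m - (q ^ 2) ^ i) m,
      ← Finset.prod_range_reflect (fun j => (q ^ 2) ^ (j + 1) - 1) m, ← Finset.prod_pow_eq_pow_sum,
      ← Finset.prod_mul_distrib]
    refine Finset.prod_congr rfl fun i hi => ?_
    rw [Finset.mem_range] at hi
    rw [Nat.mul_sub, mul_one, ← pow_add, show i + (m - 1 - i + 1) = m by omega]
  rw [hsplit, hgl, ← mul_assoc, ← mul_assoc] at hd
  have h2 := (dvd_mul_right _ _).trans (Nat.dvd_of_mul_dvd_mul_right (Finset.prod_pos fun j _ => by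
    have : 1 < (q ^ 2) ^ (j + 1) := Nat.one_lt_pow (by omega) (Nat.one_lt_pow two_ne_zero (by omega))
    omega) hd)
  rcases hrpr.dvd_mul.1 h2 with h3 | h3
  · exact absurd (hrpr.dvd_of_dvd_pow h3) hq
  · obtain ⟨j, hj, hj'⟩ := (Prime.dvd_finset_prod_iff hrpr.prime _).1 h3
    exact ⟨j, Finset.mem_range.1 hj, hj'⟩

end Cfsg.Agent.Lib.UnitaryPairDerange
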